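import Groth.Agent.H14.BGRes.Fun
import Groth.Agent.H14.BGPush.Extension
import Groth.Agent.H14.UB.Coherent

/-!
Linear reductivity descends along faithfully flat base change.
-/

set_option autoImplicit false
set_option backward.isDefEq.respectTransparency false
set_option backward.isDefEq.respectTransparency.types false
set_option linter.style.haveILetI false
set_option synthInstance.maxHeartbeats 400000

universe u

open CategoryTheory CategoryTheory.Limits MonoidalCategory CartesianMonoidalCategory MonObj AlgebraicGeometry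
open StMod (sch bmap fibCat etaOf)
open Groth.Agent.Lib
open Groth.Agent.Lib.QuotSt.BGMono (coef bs exists_hom triv_ext coef_comp)
open Groth.Agent.H14.IsoNat.BGNeutral (triv)
open Groth.Agent.H14.GenFam
open Groth.Agent.H14.BGPush (exists_chart)
open Groth.Agent.H14.MultiExt (FlatHom)
open Groth.Agent.H14.CohDesc (relSect_mapTop)

namespace Groth.Agent.H14.BGRes

variable {S S' : Scheme.{u}} {f : S' ⟶ S} {G : Over S} [GrpObj G] [IsAffineHom G.hom] [Flat G.hom]
  {σ : AlgSt.BG Scheme.fppfPrecoverage G ⥤ᵇ AlgSt.ofSch (Over.mk (𝟙 S))}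

theorem mapTop_injective_of_iso (F : StMod.QCoh (AlgSt.BG Scheme.fppfPrecoverage G))
    {o' o : (AlgSt.BG Scheme.fppfPrecoverage G).obj} (k : o' ⟶ o) [IsIso k] :
    Function.Injective (F.obj.mapTop k) := fun a b h => by
  have e := congrArg (F.obj.mapTop (CategoryTheory.inv k)) h
  rwa [← StMod.Mod.mapTop_comp, ← StMod.Mod.mapTop_comp, IsIso.inv_hom_id, StMod.Mod.mapTop_id,
    StMod.Mod.mapTop_id] at e

/-- The natural maps of families induced by a morphism. -/
noncomputable def postFlat {E F F' : StMod.QCoh (AlgSt.BG Scheme.fppfPrecoverage G)} (D : FibData σ E)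
    (u : F ⟶ F') : FlatHom (homFlat D F) (homFlat D F') where
  app o _ := D.post u o
  natural := fun {o' o} _ _ e s => D.val_injective ((D.val_post u o' _).trans
    ((congrArg (homPost u o') (D.val_res e s)).trans ((homRes_homPost u e _).symm.trans
      ((congrArg (homRes e) (D.val_post u o s).symm).trans (D.val_res e _).symm))))

set_option maxHeartbeats 1600000 in
/-- Families lift at affine schemes etale over the base change. -/
theorem post_surjective (σ' : AlgSt.BG Scheme.fppfPrecoverage (Red.bc f G) ⥤ᵇ AlgSt.ofSch (Over.mk (𝟙 S')))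
    (h' : StMod.IsCohAffine σ') (D : FibData σ (StMod.OQ (AlgSt.BG Scheme.fppfPrecoverage G)))
    {F M : StMod.QCoh (AlgSt.BG Scheme.fppfPrecoverage G)} (u : F ⟶ M) (hu : StMod.Mod.IsSurj u.hom)
    (W : Over S') [IsAffine W.left] [Etale W.hom] (eb : (AlgSt.ofSch (Over.mk (𝟙 S))).obj) (heb : eb.base = push f W) :
    haveI : IsAffine (sch (AlgSt.ofSch (Over.mk (𝟙 S))) eb) := by
      show IsAffine eb.base.left
      rw [heb]
      exact ‹IsAffine W.left›
    Function.Surjective (D.post u eb) := by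
  obtain ⟨b, sec⟩ := eb
  dsimp only at heb
  subst heb
  let eb : (AlgSt.ofSch (Over.mk (𝟙 S))).obj := ⟨push f W, sec⟩
  letI : IsAffine (sch (AlgSt.ofSch (Over.mk (𝟙 S))) eb) := ‹IsAffine W.left›
  haveI : IsAffine eb.base.left := ‹IsAffine W.left›
  have hG : FibCat.IsFibGrpd (AlgSt.BG Scheme.fppfPrecoverage G).p := Lib.QuotSt.isFibGrpd
  have hG' : FibCat.IsFibGrpd (AlgSt.BG Scheme.fppfPrecoverage (Red.bc f G)).p := Lib.QuotSt.isFibGrpd
  haveI : IsAffineHom (Red.bc f G).hom := MorphismProperty.pullback_snd (P := @IsAffineHom) G.hom f inferInstance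
  haveI : Flat (Red.bc f G).hom := MorphismProperty.pullback_snd (P := @Flat) G.hom f inferInstance
  obtain ⟨C, hCx, hCw, hp₁, hp₂, hq₁, hq₂⟩ := exists_chart σ eb
  let E' : AlgSp.EtOver ((AlgSp.yon S').obj (Over.mk (𝟙 S'))) :=
    AlgSp.EtOver.mk ((AlgSp.yon S').map (Over.homMk W.hom : W ⟶ Over.mk (𝟙 S')))
      ((AlgSp.repWith_yon_map_iff _ _).2 ‹Etale W.hom›)
  let θ : (AlgSt.ofSch (Over.mk (𝟙 S'))).obj := etaOf E'
  haveI : IsAffine θ.base.left := ‹IsAffine W.left›
  obtain ⟨C', hC'x, hC'w, hp₁', hp₂', hq₁', hq₂'⟩ := exists_chart σ' θ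
  obtain ⟨Cx, Cw, Caffx, Caffw, Cp, Cq, Ccov, Cov⟩ := C
  obtain ⟨C'x, C'w, C'affx, C'affw, C'p, C'q, C'cov, C'ov⟩ := C'
  dsimp only at hCx hCw hC'x hC'w
  subst hCx hCw hC'x hC'w
  simp only [eqToHom_refl, Category.id_comp, Category.comp_id] at hp₁ hp₂ hq₁ hq₂ hp₁' hp₂' hq₁' hq₂'
  let C₁ : Chart (fibCat σ eb) := ⟨_, _, Caffx, Caffw, Cp, Cq, Ccov, Cov⟩
  let C₂ : Chart (fibCat σ' θ) := ⟨_, _, C'affx, C'affw, C'p, C'q, C'cov, C'ov⟩
  obtain ⟨ρ, hρb, hρi, hρ⟩ := exists_triv_cmp f (G := G) W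
  obtain ⟨ρw, hρwb, hρwi, hρw⟩ := exists_triv_cmp f (G := G) (Red.bc f G ⊗ W)
  obtain ⟨k, hk₁, hk₂⟩ := exists_hom (G := G) (cmp f G W) (1 : push f (Red.bc f G ⊗ W) ⟶ G)
  haveI : IsIso k.base := by
    show IsIso (bs k)
    rw [hk₁]
    infer_instance
  haveI : IsIso k := QuotSt.isIso_of_base k
  have eP : ρw ≫ map f G C'p.left = (k ≫ Cp.left) ≫ ρ := rho_natural f C'p.left (k ≫ Cp.left) (by
      show bs k ≫ bs Cp.left = _
      rw [hk₁, hp₁, hp₁']
      exact lift_snd _ _) (by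
      rw [coef_comp, hk₁, hk₂, hp₂, _root_.one_mul, hp₂']
      exact lift_fst _ _) ρw ρ hρw hρ
  have eQ : ρw ≫ map f G C'q.left = (k ≫ Cq.left) ≫ ρ := rho_natural f C'q.left (k ≫ Cq.left) (by
      show bs k ≫ bs Cq.left = _
      rw [hk₁, hq₁, hq₁']
      exact lift_snd _ _) (by
      rw [coef_comp, hk₁, hk₂, hq₂, _root_.one_mul, hq₂', MonObj.comp_one]
      exact (down_one f G _).symm) ρw ρ hρw hρ
  intro y
  let l : AObj σ eb := ⟨C₁.x.left, C₁.x.hom, C₁.affx⟩
  let lw : AObj σ eb := ⟨C₁.w.left, C₁.w.hom, C₁.affw⟩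
  let z : Γ(M.obj.obj (triv G (push f W)), ⊤) := (D.val y).1 l (oneO _ l.ξ)
  have hz : M.obj.mapTop Cp.left z = M.obj.mapTop Cq.left z := by
    refine ((D.val y).2 (l' := lw) (l := l) Cp.left (CostructuredArrow.w Cp) _).trans
      (Eq.trans ?_ ((D.val y).2 (l' := lw) (l := l) Cq.left (CostructuredArrow.w Cq) _).symm)
    exact congrArg _ ((oneO_mapTop Cp.left).trans (oneO_mapTop Cq.left).symm)
  obtain ⟨z', hz1⟩ : ∃ z' : Γ(M.obj.obj (obj f G (triv (Red.bc f G) W)), ⊤), M.obj.mapTop ρ z' = z :=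
    ⟨M.obj.mapTop (CategoryTheory.inv ρ) z, by
      rw [← StMod.Mod.mapTop_comp, IsIso.hom_inv_id, StMod.Mod.mapTop_id]⟩
  obtain ⟨t, ht⟩ := QuotGood.exists_relSect_of_inv hG' (resQ f M) C₂ z' (by
    show M.obj.mapTop (map f G C'p.left) z' = M.obj.mapTop (map f G C'q.left) z'
    refine mapTop_injective_of_iso M ρw ?_
    rw [← StMod.Mod.mapTop_comp, ← StMod.Mod.mapTop_comp, eP, eQ, StMod.Mod.mapTop_comp, StMod.Mod.mapTop_comp,
      hz1, StMod.Mod.mapTop_comp, StMod.Mod.mapTop_comp, hz, hz1])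
  let u' : resQ f F ⟶ resQ f M := ObjectProperty.homMk
    { app := fun o => u.hom.app (obj f G o)
      comm := fun {_ _} φ {g} hg => u.hom.comm (map f G φ) (g := g) hg }
  obtain ⟨s, hs⟩ := h' u' (fun o ho a => hu (obj f G o) ho a) E' ‹IsAffine W.left› t
  let v' : Γ(F.obj.obj (obj f G (triv (Red.bc f G) W)), ⊤) := s.1 C₂.x.left C₂.x.hom
  let v : Γ(F.obj.obj (triv G (push f W)), ⊤) := F.obj.mapTop ρ v'
  have hv : F.obj.mapTop Cp.left v = F.obj.mapTop Cq.left v := by
    refine mapTop_injective_of_iso F k ?_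
    show F.obj.mapTop k (F.obj.mapTop Cp.left (F.obj.mapTop ρ v')) = F.obj.mapTop k (F.obj.mapTop Cq.left (F.obj.mapTop ρ v'))
    rw [← StMod.Mod.mapTop_comp, ← StMod.Mod.mapTop_comp, ← StMod.Mod.mapTop_comp, ← StMod.Mod.mapTop_comp, ← eP,
      ← eQ, StMod.Mod.mapTop_comp, StMod.Mod.mapTop_comp]
    exact congrArg (F.obj.mapTop ρw) ((relSect_mapTop s C₂.p).trans (relSect_mapTop s C₂.q).symm)
  have hv' : (u.hom.app (obj f G (triv (Red.bc f G) W))).app ⊤ v' = z' :=
    (congrArg (fun r : (resQ f M).obj.RelSect σ' θ => r.1 C₂.x.left C₂.x.hom) hs).trans ht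
  have huv : (u.hom.app (triv G (push f W))).app ⊤ v = z := by
    refine Eq.trans (StMod.Mod.mapTop_app u.hom ρ v').symm ?_
    exact (congrArg (M.obj.mapTop ρ) hv').trans hz1
  obtain ⟨r, hr⟩ := QuotGood.exists_relSect_of_inv hG F C₁ v hv
  let fam : homFam σ (StMod.OQ (AlgSt.BG Scheme.fppfPrecoverage G)) F eb :=
    ⟨fun l =>
      { toFun := fun c => (show Γ(sch _ l.ξ, ⊤) from c) • r.1 l.ξ l.α
        map_add' := fun a b => add_smul _ _ _
        map_smul' := fun a b => mul_smul _ _ _ },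
      fun l' l φ h c => by
        show F.obj.mapTop φ ((show Γ(sch _ l.ξ, ⊤) from c) • r.1 l.ξ l.α) =
          (show Γ(sch _ l'.ξ, ⊤) from (StMod.O _).mapTop φ c) • r.1 l'.ξ l'.α
        rw [StMod.Mod.mapTop_smul, StMod.O_mapTop, r.2 φ l.α, h]⟩
  refine ⟨(D.shr F eb).symm fam, D.val_injective ?_⟩
  refine (D.val_post u _ _).trans ?_
  refine Subtype.ext ?_
  have key : evGen (⟨1, fun _ => oneO _ C₁.x.left, Submodule.eq_top_iff'.2 fun c => by
      rw [← smul_oneO c]
      exact Submodule.smul_mem _ _ (Submodule.subset_span ⟨0, rfl⟩)⟩ : Pres C₁ (StMod.OQ (AlgSt.BG Scheme.fppfPrecoverage G)))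
      (homPost u eb (D.val ((D.shr F eb).symm fam))) =
    evGen _ (D.val y) := funext fun _ => by
      have e : D.val ((D.shr F eb).symm fam) = fam := (D.shr F eb).apply_symm_apply _
      rw [e]
      show (u.hom.app (triv G (push f W))).app ⊤ ((1 : Γ(sch (AlgSt.BG Scheme.fppfPrecoverage G) (triv G (push f W)), ⊤)) •
        r.1 C₁.x.left C₁.x.hom) = z
      rw [one_smul]
      exact (congrArg ((u.hom.app (triv G (push f W))).app ⊤) hr).trans huv
  exact congrArg Subtype.val (evGen_injective hG _ key)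

variable (σ) in
set_option maxHeartbeats 1600000 in
/-- Linear reductivity descends. -/
theorem isCohAffine_of_bc [Flat f] [Surjective f]
    (σ' : AlgSt.BG Scheme.fppfPrecoverage (Red.bc f G) ⥤ᵇ AlgSt.ofSch (Over.mk (𝟙 S')))
    (h' : StMod.IsCohAffine σ') : StMod.IsCohAffine σ := by
  have hG : FibCat.IsFibGrpd (AlgSt.BG Scheme.fppfPrecoverage G).p := Lib.QuotSt.isFibGrpd
  have hS : FibCat.IsFibGrpd (AlgSt.ofSch (Over.mk (𝟙 S))).p :=
    (Lib.AlgStack.IsAlg.isAlgStack_ofSp ((AlgSp.ofScheme _).obj (Over.mk (𝟙 S)))).isStack.1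
  let D : FibData σ (StMod.OQ (AlgSt.BG Scheme.fppfPrecoverage G)) :=
    ⟨hG, hS, fun y hy => by
      haveI : IsAffine y.base.left := hy
      exact ⟨(exists_chart σ y).choose⟩, fun x _ => fp_OQ x⟩
  intro F M u hu E hE
  let θ : (AlgSt.ofSch (Over.mk (𝟙 S))).obj := etaOf E
  haveI : IsAffine θ.base.left := hE
  haveI : IsAffine (sch (AlgSt.ofSch (Over.mk (𝟙 S))) θ) := hE
  haveI : IsAffine (sch (AlgSt.ofSp ((AlgSp.ofScheme S).obj (Over.mk (𝟙 S))).obj) (etaOf E)) := hE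
  haveI hUet : Etale θ.base.hom := by
    obtain ⟨g, hg⟩ := (AlgSp.yon S).map_surjective E.obj.hom
    have h1 : Etale g.left := (AlgSp.repWith_yon_map_iff _ _).1 (by rw [hg]; exact E.property)
    have h2 : g.left = θ.base.hom := (Category.comp_id _).symm.trans (Over.w g)
    exact h2 ▸ h1
  let T' : Over S' := Over.mk (pullback.snd θ.base.hom f)
  let B : T'.left.affineOpens → Over S' := fun V => Over.mk (V.1.ι ≫ T'.hom)
  let incl : ∀ V, push f (B V) ⟶ θ.base := fun V => Over.homMk (V.1.ι ≫ pullback.fst θ.base.hom f) (by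
    show (V.1.ι ≫ pullback.fst θ.base.hom f) ≫ θ.base.hom = (V.1.ι ≫ pullback.snd θ.base.hom f) ≫ f
    rw [Category.assoc, Category.assoc, pullback.condition])
  let Eobj : T'.left.affineOpens → (AlgSt.ofSch (Over.mk (𝟙 S))).obj := fun V => ⟨push f (B V), ⟨toUnit _⟩⟩
  let c : ∀ V, Eobj V ⟶ θ := fun V => ⟨incl V, congrArg ULift.up (toUnit_unique (X := push f (B V)) _ _)⟩
  let D' : Cover (𝒳 := AlgSt.ofSch (Over.mk (𝟙 S))) θ T'.left.affineOpens :=
    { E := Eobj
      aff := fun V => show IsAffine (B V).left from V.2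
      e := c
      flat := fun V => show Flat (V.1.ι ≫ pullback.fst θ.base.hom f) from inferInstance
      surj := fun x => by
        obtain ⟨t, ht⟩ := (inferInstance : Surjective (pullback.fst θ.base.hom f)).surj x
        obtain ⟨V, hV, htV, -⟩ := exists_isAffineOpen_mem_and_subset (X := T'.left) (x := t) (U := ⊤) trivial
        exact ⟨⟨V, hV⟩, ⟨t, htV⟩, ht⟩ }
  obtain ⟨C, hCx, hCw, -⟩ := exists_chart σ θ
  haveI : Flat (bmap (AlgSt.ofSch (Over.mk (𝟙 S))) (𝟙 θ)) := by rw [StMod.bmap_id]; infer_instance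
  refine QuotGood.relSectMap_surjective hS u C (𝟙 θ) hG fun z hz => ?_
  obtain ⟨r, hr⟩ := QuotGood.exists_relSect_of_inv hG M C z hz
  let fam : homFam σ (StMod.OQ (AlgSt.BG Scheme.fppfPrecoverage G)) M θ :=
    ⟨fun l =>
      { toFun := fun c => (show Γ(sch _ l.ξ, ⊤) from c) • r.1 l.ξ l.α
        map_add' := fun a b => add_smul _ _ _
        map_smul' := fun a b => mul_smul _ _ _ },
      fun l' l φ h c => by
        show M.obj.mapTop φ ((show Γ(sch _ l.ξ, ⊤) from c) • r.1 l.ξ l.α) =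
          (show Γ(sch _ l'.ξ, ⊤) from (StMod.O _).mapTop φ c) • r.1 l'.ξ l'.α
        rw [StMod.Mod.mapTop_smul, StMod.O_mapTop, r.2 φ l.α, h]⟩
  obtain ⟨s, hs⟩ := UB.mem_range_of_cover (postFlat D u) D' ((D.shr M θ).symm fam) fun V => by
    haveI : IsAffine (B V).left := V.2
    haveI : Etale T'.hom := MorphismProperty.pullback_snd (P := @Etale) θ.base.hom f hUet
    haveI : Etale (B V).hom := inferInstanceAs (Etale (V.1.ι ≫ T'.hom))
    exact post_surjective σ' h' D u hu (B V) (Eobj V) rfl _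
  let l : AObj σ θ := ⟨C.x.left, C.x.hom, C.affx⟩
  let lw : AObj σ θ := ⟨C.w.left, C.w.hom, C.affw⟩
  refine ⟨(D.val s).1 l (oneO _ l.ξ), ?_, ?_⟩
  · refine ((D.val s).2 (l' := lw) (l := l) C.p.left (CostructuredArrow.w C.p) _).trans
      (Eq.trans ?_ ((D.val s).2 (l' := lw) (l := l) C.q.left (CostructuredArrow.w C.q) _).symm)
    exact congrArg _ ((oneO_mapTop C.p.left).trans (oneO_mapTop C.q.left).symm)
  · have e : homPost u θ (D.val s) = fam :=
      (D.val_post u θ s).symm.trans ((congrArg D.val hs).trans ((D.shr M θ).apply_symm_apply _))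
    refine (congrArg (fun q : homFam σ (StMod.OQ (AlgSt.BG Scheme.fppfPrecoverage G)) M θ => q.1 l (oneO _ l.ξ)) e).trans ?_
    show (1 : Γ(sch (AlgSt.BG Scheme.fppfPrecoverage G) C.x.left, ⊤)) • r.1 C.x.left C.x.hom = z
    rw [one_smul, hr]

end Groth.Agent.H14.BGRes
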