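import Groth.Agent.H14.BGPush.Main
import Groth.Agent.H14.BGPush.Point

/-!
Torsors over a base change seen over the base.
-/

set_option autoImplicit false
set_option backward.isDefEq.respectTransparency false
set_option backward.isDefEq.respectTransparency.types false
set_option linter.style.haveILetI false
set_option synthInstance.maxHeartbeats 400000
set_option maxHeartbeats 1600000

universe u

open CategoryTheory CategoryTheory.Limits MonoidalCategory CartesianMonoidalCategory MonObj AlgebraicGeometry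
open StMod (sch bmap)
open AlgSt (QuotObj)
open Groth.Agent.Lib
open Groth.Agent.Lib.QuotSt.BGMono (coef bs exists_hom triv_ext coef_comp)
open Groth.Agent.H14.IsoNat.BGNeutral (triv)

namespace Groth.Agent.H14.BGRes

variable {S S' : Scheme.{u}} (f : S' ⟶ S) (G : Over S) [GrpObj G]

/-- The underlying scheme over the base. -/
noncomputable abbrev push (X : Over S') : Over S := (Over.map f).obj X

/-- The projection of the base change. -/
noncomputable def counit : push f (Red.bc f G) ⟶ G := (Over.mapPullbackAdj f).counit.app G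

/-- A point of the base change as a point. -/
noncomputable def down {X : Over S'} (a : X ⟶ Red.bc f G) : push f X ⟶ G := ((Over.mapPullbackAdj f).homEquiv X G).symm a

theorem down_mul {X : Over S'} (a b : X ⟶ Red.bc f G) : down f G (a * b) = down f G a * down f G b := by
  apply ((Over.mapPullbackAdj f).homEquiv X G).injective
  rw [down, down, down, Equiv.apply_symm_apply, Adjunction.homEquiv_unit, Functor.map_mul, MonObj.comp_mul,
    ← Adjunction.homEquiv_unit, ← Adjunction.homEquiv_unit, Equiv.apply_symm_apply, Equiv.apply_symm_apply]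

theorem down_one (X : Over S') : down f G (1 : X ⟶ Red.bc f G) = 1 := by
  apply ((Over.mapPullbackAdj f).homEquiv X G).injective
  rw [down, Equiv.apply_symm_apply, Adjunction.homEquiv_unit, Functor.map_one, MonObj.comp_one]

theorem down_comp {X X' : Over S'} (k : X' ⟶ X) (a : X ⟶ Red.bc f G) :
    down f G (k ≫ a) = (Over.map f).map k ≫ down f G a :=
  (Over.mapPullbackAdj f).homEquiv_naturality_left_symm k a

/-- The comparison of products. -/
noncomputable def cmp (X : Over S') : push f (Red.bc f G ⊗ X) ⟶ G ⊗ push f X :=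
  lift (down f G (fst (Red.bc f G) X)) ((Over.map f).map (snd (Red.bc f G) X))

theorem isPullback_cmp (X : Over S') :
    IsPullback (down f G (fst (Red.bc f G) X)).left ((Over.map f).map (snd (Red.bc f G) X)).left G.hom
      (push f X).hom := by
  have h1 : (down f G (fst (Red.bc f G) X)).left =
      (fst (Red.bc f G) X).left ≫ pullback.fst G.hom f := by
    rw [down, Adjunction.homEquiv_counit]
    simp
  rw [h1]
  exact (IsPullback.of_hasPullback (Red.bc f G).hom X.hom).paste_horiz (IsPullback.of_hasPullback G.hom f) |> id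

instance isIso_cmp (X : Over S') : IsIso (cmp f G X) := by
  have h := isPullback_cmp f G X
  have e : (cmp f G X).left = h.isoPullback.hom := by
    apply pullback.hom_ext
    · rw [IsPullback.isoPullback_hom_fst]
      exact congrArg CommaMorphism.left (lift_fst (down f G (fst (Red.bc f G) X)) _)
    · rw [IsPullback.isoPullback_hom_snd]
      exact congrArg CommaMorphism.left (lift_snd (down f G (fst (Red.bc f G) X)) _)
  haveI : IsIso ((Over.forget S).map (cmp f G X)) := by
    show IsIso (cmp f G X).left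
    rw [e]
    infer_instance
  exact isIso_of_reflects_iso (cmp f G X) (Over.forget S)

theorem map_lift_cmp {W X : Over S'} (a : W ⟶ Red.bc f G) (p : W ⟶ X) :
    (Over.map f).map (lift a p) ≫ cmp f G X = lift (down f G a) ((Over.map f).map p) := by
  rw [cmp, comp_lift, ← down_comp, lift_fst, ← Functor.map_comp, lift_snd]

theorem cmp_natural {X X' : Over S'} (k : X' ⟶ X) :
    (Over.map f).map (Red.bc f G ◁ k) ≫ cmp f G X = cmp f G X' ≫ (G ◁ (Over.map f).map k) := by
  rw [cmp, cmp, comp_lift, ← down_comp, whiskerLeft_fst, ← Functor.map_comp, whiskerLeft_snd, lift_whiskerLeft,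
    Functor.map_comp]

/-- The action over the base. -/
noncomputable def pushAct {X : Over S'} (a : AlgGrp.Action (Red.bc f G) X) : G ⊗ push f X ⟶ push f X :=
  CategoryTheory.inv (cmp f G X) ≫ (Over.map f).map a.act

theorem exists_up {W : Over S} {X : Over S'} (g : W ⟶ G) (p : W ⟶ push f X) :
    ∃ (W' : Over S') (e : W ⟶ push f W') (_ : IsIso e) (g' : W' ⟶ Red.bc f G) (p' : W' ⟶ X),
      e ≫ down f G g' = g ∧ e ≫ (Over.map f).map p' = p := by
  let W' : Over S' := Over.mk (p.left ≫ X.hom)
  let e : W ⟶ push f W' := Over.homMk (𝟙 W.left) (by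
    show 𝟙 _ ≫ (p.left ≫ X.hom) ≫ f = W.hom
    rw [Category.id_comp, Category.assoc]
    exact Over.w p)
  haveI : IsIso ((Over.forget S).map e) := inferInstanceAs (IsIso (𝟙 W.left))
  haveI := isIso_of_reflects_iso e (Over.forget S)
  refine ⟨W', e, inferInstance, (Over.mapPullbackAdj f).homEquiv W' G (CategoryTheory.inv e ≫ g),
    Over.homMk p.left rfl, ?_, ?_⟩
  · rw [down, Equiv.symm_apply_apply, IsIso.hom_inv_id_assoc]
  · exact Over.OverMorphism.ext (Category.id_comp _)

theorem lift_pushAct {W : Over S} {W' X : Over S'} (a : AlgGrp.Action (Red.bc f G) X) (e : W ⟶ push f W')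
    (g' : W' ⟶ Red.bc f G) (p' : W' ⟶ X) :
    lift (e ≫ down f G g') (e ≫ (Over.map f).map p') ≫ pushAct f G a =
      e ≫ (Over.map f).map (lift g' p' ≫ a.act) := by
  rw [← comp_lift, ← map_lift_cmp, Functor.map_comp, pushAct]
  simp

/-- The action over the base. -/
noncomputable def pushAction {X : Over S'} (a : AlgGrp.Action (Red.bc f G) X) : AlgGrp.Action G (push f X) where
  act := pushAct f G a
  one_act := by
    obtain ⟨W', e, _, g', p', hg, hp⟩ := exists_up f G (1 : 𝟙_ (Over S) ⊗ push f X ⟶ G) (λ_ (push f X)).hom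
    have h1 : η[G] ▷ push f X = lift (1 : 𝟙_ (Over S) ⊗ push f X ⟶ G) (λ_ (push f X)).hom := by
      apply CartesianMonoidalCategory.hom_ext
      · rw [whiskerRight_fst, lift_fst, Hom.one_def]
        exact congrArg (· ≫ η[G]) (toUnit_unique _ _)
      · rw [whiskerRight_snd, lift_snd, leftUnitor_hom]
    rw [h1, ← hg, ← hp, lift_pushAct]
    have hg' : g' = 1 := by
      apply ((Over.mapPullbackAdj f).homEquiv W' G).symm.injective
      show down f G g' = down f G 1
      rw [down_one, ← cancel_epi e, hg, MonObj.comp_one]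
    rw [hg', Lib.QuotSt.Act.one_smul]
  mul_act := by
    obtain ⟨W', e, _, g', p', hg, hp⟩ := exists_up f G (fst (G ⊗ G) (push f X) ≫ fst G G) (snd (G ⊗ G) (push f X))
    obtain ⟨h', hh⟩ : ∃ h' : W' ⟶ Red.bc f G, e ≫ down f G h' = fst (G ⊗ G) (push f X) ≫ snd G G :=
      ⟨(Over.mapPullbackAdj f).homEquiv W' G (CategoryTheory.inv e ≫ fst (G ⊗ G) (push f X) ≫ snd G G), by
        rw [down, Equiv.symm_apply_apply, IsIso.hom_inv_id_assoc]⟩
    have h1 : μ[G] ▷ push f X = lift ((fst (G ⊗ G) (push f X) ≫ fst G G) * (fst (G ⊗ G) (push f X) ≫ snd G G))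
        (snd (G ⊗ G) (push f X)) := by
      apply CartesianMonoidalCategory.hom_ext
      · rw [whiskerRight_fst, lift_fst, Hom.mul_def, ← comp_lift, lift_fst_snd, Category.comp_id]
      · rw [whiskerRight_snd, lift_snd]
    have h2 : (α_ G G (push f X)).hom ≫ (G ◁ pushAct f G a) =
        lift (fst (G ⊗ G) (push f X) ≫ fst G G)
          (lift (fst (G ⊗ G) (push f X) ≫ snd G G) (snd (G ⊗ G) (push f X)) ≫ pushAct f G a) := by
      apply CartesianMonoidalCategory.hom_ext
      · rw [Category.assoc, whiskerLeft_fst, lift_fst, associator_hom_fst]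
      · rw [Category.assoc, whiskerLeft_snd, lift_snd, ← Category.assoc]
        congr 1
        apply CartesianMonoidalCategory.hom_ext <;> simp
    rw [← Category.assoc, h2, h1, ← hg, ← hh, ← hp, ← MonObj.comp_mul, ← down_mul, lift_pushAct, lift_pushAct,
      lift_pushAct, Lib.QuotSt.Act.mul_smul]

theorem cmp_pushAct {X : Over S'} (a : AlgGrp.Action (Red.bc f G) X) :
    cmp f G X ≫ pushAct f G a = (Over.map f).map a.act := by
  rw [pushAct, IsIso.hom_inv_id_assoc]

theorem isPullback_map {W X Y Z : Over S'} {a : W ⟶ X} {b : W ⟶ Y} {c : X ⟶ Z} {d : Y ⟶ Z}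
    (h : IsPullback a b c d) :
    IsPullback ((Over.map f).map a) ((Over.map f).map b) ((Over.map f).map c) ((Over.map f).map d) :=
  IsPullback.of_map (Over.forget S) (by rw [← Functor.map_comp, h.w, Functor.map_comp]) (h.map (Over.forget S'))

/-- The torsor over the base. -/
noncomputable def obj (o : (AlgSt.BG Scheme.fppfPrecoverage (Red.bc f G)).obj) :
    (AlgSt.BG Scheme.fppfPrecoverage G).obj where
  base := push f o.base
  P := push f o.P
  act := pushAction f G o.act
  π := (Over.map f).map o.π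
  cart := by
    refine (isPullback_map f o.cart).of_iso (asIso (cmp f G o.P)) (Iso.refl _) (Iso.refl _) (Iso.refl _) ?_ ?_
      (by simp) (by simp)
    · show (Over.map f).map o.act.act ≫ 𝟙 _ = cmp f G o.P ≫ pushAct f G o.act
      rw [cmp_pushAct, Category.comp_id]
    · show (Over.map f).map (snd _ o.P) ≫ 𝟙 _ = cmp f G o.P ≫ snd G (push f o.P)
      rw [cmp, lift_snd, Category.comp_id]
  loc := o.loc
  φ := toUnit _
  eqv := toUnit_unique _ _

/-- The functor on morphisms. -/
noncomputable def map {o' o : (AlgSt.BG Scheme.fppfPrecoverage (Red.bc f G)).obj} (m : o' ⟶ o) :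
    obj f G o' ⟶ obj f G o where
  base := (Over.map f).map m.base
  top := (Over.map f).map m.top
  eqv := by
    show pushAct f G o'.act ≫ _ = (G ◁ _) ≫ pushAct f G o.act
    rw [← cancel_epi (cmp f G o'.P), ← Category.assoc, cmp_pushAct, ← Functor.map_comp, m.eqv, Functor.map_comp,
      ← Category.assoc, ← cmp_natural, Category.assoc, cmp_pushAct]
  cart := isPullback_map f m.cart
  wφ := toUnit_unique _ _

theorem map_id (o : (AlgSt.BG Scheme.fppfPrecoverage (Red.bc f G)).obj) : map f G (𝟙 o) = 𝟙 _ :=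
  QuotObj.hom_ext ((Over.map f).map_id _) ((Over.map f).map_id _)

theorem map_comp {o'' o' o : (AlgSt.BG Scheme.fppfPrecoverage (Red.bc f G)).obj} (m : o'' ⟶ o') (n : o' ⟶ o) :
    map f G (m ≫ n) = map f G m ≫ map f G n :=
  QuotObj.hom_ext ((Over.map f).map_comp _ _) ((Over.map f).map_comp _ _)

variable {G}

theorem map_congr (F : StMod.Mod (AlgSt.BG Scheme.fppfPrecoverage G))
    {ξ' ξ : (AlgSt.BG Scheme.fppfPrecoverage G).obj} {φ φ' : ξ' ⟶ ξ} (e : φ = φ') {g : sch _ ξ' ⟶ sch _ ξ}
    (h : bmap _ φ = g) (h' : bmap _ φ' = g) : F.map φ (g := g) h = F.map φ' (g := g) h' := by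
  subst e
  rfl

/-- The restriction of a module. -/
noncomputable def resMod (F : StMod.Mod (AlgSt.BG Scheme.fppfPrecoverage G)) :
    StMod.Mod (AlgSt.BG Scheme.fppfPrecoverage (Red.bc f G)) where
  obj o := F.obj (obj f G o)
  map := fun {o' o} φ {g} hg => F.map (map f G φ) (g := g) hg
  map_id o :=
    (congrArg (· ≫ _) (map_congr F (map_id f G o) (StMod.bmap_id o) (StMod.bmap_id (obj f G o)))).trans
      (F.map_id (obj f G o))
  map_comp := fun {o'' o' o} ψ φ {h g} hh hg =>
    (map_congr F (map_comp f G ψ φ) _ (by rw [StMod.bmap_comp]; exact congrArg₂ (· ≫ ·) hh hg)).trans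
      (F.map_comp (map f G ψ) (map f G φ) (h := h) (g := g) hh hg)

/-- The restriction of a quasi-coherent module. -/
noncomputable def resQ (F : StMod.QCoh (AlgSt.BG Scheme.fppfPrecoverage G)) :
    StMod.QCoh (AlgSt.BG Scheme.fppfPrecoverage (Red.bc f G)) :=
  ⟨resMod f F.obj, fun {o' o} φ {g} hg => F.property.1 (map f G φ) hg, fun o => F.property.2 (obj f G o)⟩

/-- The trivial torsor over the base change. -/
theorem exists_triv_cmp (V : Over S') :
    ∃ ρ : triv G (push f V) ⟶ obj f G (triv (Red.bc f G) V), ρ.base = 𝟙 _ ∧ IsIso ρ ∧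
      BGPush.pt (H := G) ρ = (Over.map f).map (lift (1 : V ⟶ Red.bc f G) (𝟙 V)) := by
  let ρ : triv G (push f V) ⟶ obj f G (triv (Red.bc f G) V) :=
    BGPush.ofPt (H := G) ((Over.map f).map (lift (1 : V ⟶ Red.bc f G) (𝟙 V)))
  have hb : ρ.base = 𝟙 _ := by
    refine (BGPush.base_ofPt (H := G) _).trans ?_
    show (Over.map f).map _ ≫ (Over.map f).map (snd (Red.bc f G) V) = _
    rw [← Functor.map_comp, lift_snd]
    exact (Over.map f).map_id V
  haveI : IsIso ρ.base := by rw [hb]; exact IsIso.id _
  exact ⟨ρ, hb, QuotSt.isIso_of_base ρ, BGPush.pt_ofPt _⟩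

theorem rho_natural {V' V : Over S'} (m : triv (Red.bc f G) V' ⟶ triv (Red.bc f G) V)
    (a : triv G (push f V') ⟶ triv G (push f V)) (hb : bs a = (Over.map f).map (bs m))
    (hc : coef a = down f G (coef m)) (ρ' : triv G (push f V') ⟶ obj f G (triv (Red.bc f G) V'))
    (ρ : triv G (push f V) ⟶ obj f G (triv (Red.bc f G) V))
    (h' : BGPush.pt (H := G) ρ' = (Over.map f).map (lift (1 : V' ⟶ Red.bc f G) (𝟙 V')))
    (h : BGPush.pt (H := G) ρ = (Over.map f).map (lift (1 : V ⟶ Red.bc f G) (𝟙 V))) :
    ρ' ≫ map f G m = a ≫ ρ := by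
  refine BGPush.pt_ext ?_
  rw [BGPush.pt_comp, h, hb, hc, ← Functor.map_comp]
  refine Eq.trans ?_ ((Eq.trans ((congrArg (fun z => z ≫ pushAct f G _) (map_lift_cmp f G _ _).symm)) (by
    rw [Category.assoc, cmp_pushAct, ← Functor.map_comp])).symm)
  show lift (1 : push f V' ⟶ G) (𝟙 _) ≫ ρ'.top ≫ (Over.map f).map m.top = _
  rw [← Category.assoc]
  refine (congrArg (· ≫ (Over.map f).map m.top) h').trans ?_
  rw [← Functor.map_comp]
  refine congrArg (Over.map f).map ?_
  have e : lift (1 : V' ⟶ Red.bc f G) (𝟙 V') ≫ Lib.QuotSt.BGMono.tp m = lift (coef m) (bs m) := by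
    apply CartesianMonoidalCategory.hom_ext
    · simp [coef]
    · rw [Category.assoc, Lib.QuotSt.BGMono.top_snd m, lift_snd_assoc, Category.id_comp, lift_snd]
  refine Eq.trans e ?_
  rw [comp_lift, MonObj.comp_one, Category.comp_id]
  show _ = lift (coef m) (lift (1 : V' ⟶ Red.bc f G) (bs m)) ≫ (AlgSt.leftMul (Red.bc f G) V).act
  rw [QuotSt.lift_leftMul, _root_.mul_one]

end Groth.Agent.H14.BGRes
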