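import Groth.Agent.H14.QuotGood.Main
import Groth.Agent.Lib.ArtinAtlas.StackAtlas
import Groth.Agent.Lib.QuotSt.Atlas

/-!
The classifying stack is quasi-compact over a quasi-separated base.
-/

set_option autoImplicit false
set_option backward.isDefEq.respectTransparency false
set_option backward.isDefEq.respectTransparency.types false
set_option linter.style.haveILetI false

universe u

open CategoryTheory CategoryTheory.Limits AlgebraicGeometry MonoidalCategory
open FibCat (overCat toSelf)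
open AlgSt (RepByAlgSpWith ofSch toOverCat ofOverCat IsAlgStack)
open Groth.Agent.Lib Groth.Agent.Lib.AlgStack

namespace Groth.Agent.H14.BGRes

variable {S : Scheme.{u}}

theorem repQS_toSelf' (V : Over S) [QuasiSeparated V.hom] :
    RepByAlgSpWith AlgSp.IsQuasiSeparatedMor (toSelf (overCat V)) := fun T y => by
  obtain rfl : y = toSelf (overCat T) := Lib.AlgStack.Diag.toSelf_unique _ _
  refine ⟨(AlgSp.ofScheme S).obj (Limits.prod T V), BasedFunctor.comp (toOverCat (Limits.prod T V)) (Lib.AlgStack.Diag.prodToFp T V),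
    Lib.AlgStack.BasedBasic.IsEquivOver.comp (Lib.AlgStack.Rep.isEquivOver_toOverCat _)
      (Lib.AlgStack.Diag.isEquivOver_prodToFp T V), ?_⟩
  show AlgSp.IsQuasiSeparatedMor
    (AlgSt.spMapOfOver (BasedFunctor.comp (toOverCat (Limits.prod T V)) (Lib.AlgStack.Diag.overMap' Limits.prod.fst)))
  rw [H14.Sep.Lft.spMapOfOver_overMap']
  have h1 : AlgSt.spMapOfOver (toOverCat (Limits.prod T V)) = 𝟙 _ :=
    Lib.AlgStack.Rep.spMapOfOver_ofSpMap_toOverCat (𝟙 ((AlgSp.yon S).obj (Limits.prod T V)))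
  rw [h1, Category.id_comp]
  refine (AlgSp.isQuasiSeparatedMor_yon_map_iff _).2 ?_
  exact MorphismProperty.of_isPullback (P := @QuasiSeparated) (Lib.AlgSpMor.DiagCharts.isPullback_prod_left T V).flip
    (inferInstance : QuasiSeparated V.hom)

theorem isQuasiSeparatedOver_ofSch_base : AlgSt.IsQuasiSeparatedOver (ofSch (Over.mk (𝟙 S))) := by
  haveI : QuasiSeparated (Over.mk (𝟙 S)).hom := inferInstanceAs (QuasiSeparated (𝟙 S))
  have h1 : AlgSt.IsQuasiSeparatedMor (toSelf (overCat (Over.mk (𝟙 S)))) :=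
    H14.Sep.Main2.diag_qcqs_of_qs (repQS_toSelf' (Over.mk (𝟙 S)))
  exact (H14.Sep.Rep.diag_iff_of_isEquivOver (f := toSelf (overCat (Over.mk (𝟙 S)))) (f' := toSelf (ofSch (Over.mk (𝟙 S))))
    (Lib.AlgStack.Rep.isEquivOver_toOverCat _) Lib.AlgStack.BasedBasic.isEquivOver_id
    (eqToIso ((H14.Chart.QC2.eq_toSelf _).trans (H14.Chart.QC2.eq_toSelf _).symm))).1 h1

/-- The structure functor of a classifying stack is quasi-compact. -/
theorem isQuasiCompactMor_structure {G : Over S} [GrpObj G] [IsAffineHom G.hom] [Flat G.hom]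
    [LocallyOfFinitePresentation G.hom]
    (σ : AlgSt.BG Scheme.fppfPrecoverage G ⥤ᵇ ofSch (Over.mk (𝟙 S))) :
    AlgSt.IsQuasiCompactMor Scheme.fppfPrecoverage σ := by
  have hK : (Scheme.fppfPrecoverage : Precoverage Scheme.{u}) ≤ Scheme.fpqcPrecoverage :=
    Scheme.fppfPrecoverage_le_fpqcPrecoverage
  have hB : IsAlgStack Scheme.fppfPrecoverage (AlgSt.BG Scheme.fppfPrecoverage G) := Lib.ArtinAtlas.isAlgStack_quot _
  have hT : IsAlgStack Scheme.fppfPrecoverage (ofSch (Over.mk (𝟙 S))) :=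
    IsAlg.isAlgStack_ofSp ((AlgSp.ofScheme _).obj (Over.mk (𝟙 S)))
  let U : Over S := 𝟙_ (Over S)
  let a : overCat U ⥤ᵇ AlgSt.BG Scheme.fppfPrecoverage G := Lib.QuotSt.atlas Scheme.fppfPrecoverage (AlgSt.trivAction G)
  have ha : RepByAlgSpWith AlgSp.IsSurjectiveMor a :=
    Lib.QuotSt.repByAlgSpWith_atlas fun y => Lib.QuotSt.isSurjectiveMor_yon_map _ (Lib.QuotSt.surjective_proj hK y)
  refine H14.Chart.QC2.isQuasiCompactMor_of_surjective (Chart.Basic.isAlgStack_overCat U) hB hT
    (f := a) (p := BasedFunctor.comp a σ) (Iso.refl _) (Chart.Points.isSurjective_of_rep hB.isStack.1 ha) ?_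
  refine H14.Chart.QC2.isQuasiCompactMor_of_comp (Chart.Basic.isAlgStack_overCat U) hT H14.Chart.QC2.isAlgStack_selfOver
    (BasedFunctor.comp a σ) (a := toSelf (overCat U)) (g := toSelf _) (eqToIso (H14.Chart.QC2.eq_toSelf _).symm) ?_
    isQuasiSeparatedOver_ofSch_base
  refine (H14.Chart.QC.isQuasiCompactMor_iff (Chart.Basic.isAlgStack_overCat U) H14.Chart.QC2.isAlgStack_selfOver).2
    fun V hV y => ?_
  rw [H14.Chart.QC2.eq_toSelf y]
  haveI : QuasiCompact U.hom := inferInstanceAs (QuasiCompact (𝟙 S))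
  have : CompactSpace ↥(pullback V.hom U.hom) :=
    QuasiCompact.compactSpace_of_compactSpace (pullback.fst V.hom U.hom)
  have : CompactSpace ↥(V ⨯ U).left :=
    (Scheme.homeoOfIso (Over.prodLeftIsoPullback V U)).symm.compactSpace
  have hc := (H14.Chart.QC.isQuasiCompact_iff (Chart.Basic.isAlgStack_overCat (V ⨯ U))).1
    (H14.Chart.QC.isQuasiCompact_overCat (V ⨯ U))
  exact Chart.Basic.compactSpace_of_surjective
    (Chart.Basic.isAlgStack_fp H14.Chart.QC2.isAlgStack_selfOver (Chart.Basic.isAlgStack_overCat V)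
      (Chart.Basic.isAlgStack_overCat U) _ _)
    (Chart.Basic.surjective_map_of_isEquivOver (Lib.AlgStack.Diag.isEquivOver_prodToFp V U))

end Groth.Agent.H14.BGRes
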