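import Groth.Agent.H14.BGRes.Fun
import Groth.Agent.H14.BGPush.Chart
import Groth.Agent.H14.CohBC.BaseChange
import Groth.Agent.Lib.ArtinAtlas.StackAtlas

/-!
Linear reductivity passes to base changes.
-/

set_option autoImplicit false
set_option backward.isDefEq.respectTransparency false
set_option backward.isDefEq.respectTransparency.types false
set_option linter.style.haveILetI false
set_option synthInstance.maxHeartbeats 400000
set_option maxHeartbeats 1600000

universe u

open CategoryTheory CategoryTheory.Limits MonoidalCategory CartesianMonoidalCategory MonObj AlgebraicGeometry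
open StMod (sch bmap fibCat etaOf baseOver)
open AlgSt (QuotObj)
open Groth.Agent.Lib
open Groth.Agent.H14.BGPush (arr baseOver_arr w_arr)

namespace Groth.Agent.H14.BGRes

variable {S S' : Scheme.{u}} {f : S' ⟶ S} {G : Over S} [GrpObj G]

theorem map_ext {X Y : Over S'} {a b : X ⟶ Y} (h : (Over.map f).map a = (Over.map f).map b) : a = b :=
  Over.OverMorphism.ext (congrArg CommaMorphism.left h :)

variable {σ : AlgSt.BG Scheme.fppfPrecoverage G ⥤ᵇ AlgSt.ofSch (Over.mk (𝟙 S))}
  (W : Over S') (sec : ((AlgSp.yon S).obj (Over.mk (𝟙 S))).obj.obj (Opposite.op (push f W)))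

/-- The object of the base. -/
noncomputable abbrev eW : (AlgSt.ofSch (Over.mk (𝟙 S))).obj := ⟨push f W, sec⟩

section ReBase

variable {W sec} (o : (fibCat σ (eW W sec)).obj)

/-- The morphism to the scheme over the base change. -/
noncomputable def β : o.left.base.left ⟶ W.left := (baseOver σ o.left o.hom).left

theorem β_comp : β o ≫ W.hom ≫ f = o.left.base.hom := Over.w (baseOver σ o.left o.hom)

/-- The base. -/
noncomputable abbrev base' : Over S' := Over.mk (β o ≫ W.hom)

/-- The torsor. -/
noncomputable abbrev P' : Over S' := Over.mk (o.left.π.left ≫ β o ≫ W.hom)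

/-- The identification over the base. -/
noncomputable def eP' : push f (P' o) ⟶ o.left.P := Over.homMk (𝟙 _) (by
  show 𝟙 _ ≫ o.left.P.hom = (o.left.π.left ≫ β o ≫ W.hom) ≫ f
  rw [Category.id_comp, Category.assoc, Category.assoc, β_comp, Over.w o.left.π])

instance : IsIso (eP' o) := by
  haveI : IsIso ((Over.forget S).map (eP' o)) := inferInstanceAs (IsIso (𝟙 o.left.P.left))
  exact isIso_of_reflects_iso (eP' o) (Over.forget S)

/-- The identification of the bases. -/
noncomputable def eB : push f (base' o) ⟶ o.left.base := Over.homMk (𝟙 _) (by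
  show 𝟙 _ ≫ o.left.base.hom = (β o ≫ W.hom) ≫ f
  rw [Category.id_comp, Category.assoc, β_comp])

/-- The projection. -/
noncomputable def π' : P' o ⟶ base' o := Over.homMk o.left.π.left rfl

theorem map_π' : (Over.map f).map (π' o) ≫ eB o = eP' o ≫ o.left.π :=
  Over.OverMorphism.ext ((Category.comp_id _).trans (Category.id_comp _).symm)

/-- The scheme map of the action. -/
noncomputable def actMap : push f (Red.bc f G ⊗ P' o) ⟶ o.left.P :=
  cmp f G (P' o) ≫ (G ◁ eP' o) ≫ o.left.act.act

theorem actMap_π : actMap o ≫ o.left.π =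
    (Over.map f).map (snd (Red.bc f G) (P' o)) ≫ eP' o ≫ o.left.π := by
  rw [actMap, Category.assoc, Category.assoc, o.left.cart.w, whiskerLeft_snd_assoc, cmp, lift_snd_assoc]

/-- The action. -/
noncomputable def act' : Red.bc f G ⊗ P' o ⟶ P' o := Over.homMk (actMap o).left (by
  show (actMap o).left ≫ o.left.π.left ≫ β o ≫ W.hom = _
  have h := congrArg CommaMorphism.left (actMap_π o)
  simp only [Over.comp_left] at h
  rw [← Category.assoc, h, Category.assoc, Category.assoc]
  refine Eq.trans ?_ (Over.w (snd (Red.bc f G) (P' o)))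
  refine congrArg ((snd (Red.bc f G) (P' o)).left ≫ ·) ?_
  show 𝟙 _ ≫ o.left.π.left ≫ β o ≫ W.hom = _
  rw [Category.id_comp]
  rfl)

theorem map_act' : (Over.map f).map (act' o) ≫ eP' o = actMap o :=
  Over.OverMorphism.ext (Category.comp_id _)

theorem lift_act' {V : Over S'} (g : V ⟶ Red.bc f G) (p : V ⟶ P' o) :
    (Over.map f).map (lift g p ≫ act' o) ≫ eP' o =
      lift (down f G g) ((Over.map f).map p ≫ eP' o) ≫ o.left.act.act := by
  rw [Functor.map_comp, Category.assoc, map_act', actMap, ← Category.assoc, map_lift_cmp, lift_whiskerLeft_assoc]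

/-- The action as an action. -/
noncomputable def action' : AlgGrp.Action (Red.bc f G) (P' o) where
  act := act' o
  one_act := by
    have h1 : η[Red.bc f G] ▷ P' o = lift (1 : 𝟙_ (Over S') ⊗ P' o ⟶ Red.bc f G) (λ_ (P' o)).hom := by
      apply CartesianMonoidalCategory.hom_ext
      · rw [whiskerRight_fst, lift_fst, Hom.one_def]
        exact congrArg (· ≫ η[Red.bc f G]) (toUnit_unique _ _)
      · rw [whiskerRight_snd, lift_snd, leftUnitor_hom]
    refine map_ext (f := f) ((cancel_mono (eP' o)).1 ?_)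
    rw [h1, lift_act', down_one, Lib.QuotSt.Act.one_smul]
  mul_act := by
    have h1 : μ[Red.bc f G] ▷ P' o =
        lift ((fst (Red.bc f G ⊗ Red.bc f G) (P' o) ≫ fst _ _) * (fst (Red.bc f G ⊗ Red.bc f G) (P' o) ≫ snd _ _))
          (snd (Red.bc f G ⊗ Red.bc f G) (P' o)) := by
      apply CartesianMonoidalCategory.hom_ext
      · rw [whiskerRight_fst, lift_fst, Hom.mul_def, ← comp_lift, lift_fst_snd, Category.comp_id]
      · rw [whiskerRight_snd, lift_snd]
    have h2 : (α_ (Red.bc f G) (Red.bc f G) (P' o)).hom ≫ (Red.bc f G ◁ act' o) =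
        lift (fst (Red.bc f G ⊗ Red.bc f G) (P' o) ≫ fst _ _)
          (lift (fst (Red.bc f G ⊗ Red.bc f G) (P' o) ≫ snd _ _) (snd (Red.bc f G ⊗ Red.bc f G) (P' o)) ≫ act' o) := by
      apply CartesianMonoidalCategory.hom_ext
      · rw [Category.assoc, whiskerLeft_fst, lift_fst, associator_hom_fst]
      · rw [Category.assoc, whiskerLeft_snd, lift_snd, ← Category.assoc]
        congr 1
        apply CartesianMonoidalCategory.hom_ext <;> simp
    refine map_ext (f := f) ((cancel_mono (eP' o)).1 ?_)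
    rw [← Category.assoc _ _ (act' o), h2, h1, lift_act', lift_act', lift_act', down_mul, Lib.QuotSt.Act.mul_smul]

/-- The torsor over the base change. -/
noncomputable def reBase : (AlgSt.BG Scheme.fppfPrecoverage (Red.bc f G)).obj where
  base := base' o
  P := P' o
  act := action' o
  π := π' o
  cart := by
    have hsq : act' o ≫ π' o = snd (Red.bc f G) (P' o) ≫ π' o := by
      refine map_ext (f := f) ?_
      haveI : Mono (eB o) := by
        haveI : IsIso ((Over.forget S).map (eB o)) := inferInstanceAs (IsIso (𝟙 o.left.base.left))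
        haveI := isIso_of_reflects_iso (eB o) (Over.forget S)
        infer_instance
      rw [← cancel_mono (eB o), Functor.map_comp, Functor.map_comp, Category.assoc, Category.assoc, map_π', ← Category.assoc,
        map_act', actMap_π]
    refine IsPullback.of_map (Over.forget S') hsq ?_
    refine ((o.left.cart).map (Over.forget S)).of_iso
      ((Over.forget S).mapIso (asIso (cmp f G (P' o) ≫ (G ◁ eP' o)))).symm (Iso.refl _) (Iso.refl _) (Iso.refl _) ?_ ?_
      ((Category.comp_id _).trans (Category.id_comp _).symm) ((Category.comp_id _).trans (Category.id_comp _).symm)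
    · show o.left.act.act.left ≫ 𝟙 _ = (CategoryTheory.inv (cmp f G (P' o) ≫ (G ◁ eP' o))).left ≫ (actMap o).left
      rw [Category.comp_id, ← Over.comp_left]
      refine congrArg CommaMorphism.left ?_
      rw [IsIso.eq_inv_comp, actMap, Category.assoc]
    · show (snd G o.left.P).left ≫ 𝟙 _ = (CategoryTheory.inv (cmp f G (P' o) ≫ (G ◁ eP' o))).left ≫
        ((Over.map f).map (snd (Red.bc f G) (P' o))).left
      rw [Category.comp_id, ← Over.comp_left]
      have e : (cmp f G (P' o) ≫ (G ◁ eP' o)) ≫ snd G o.left.P = (Over.map f).map (snd (Red.bc f G) (P' o)) ≫ eP' o := by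
        rw [Category.assoc, whiskerLeft_snd, cmp, lift_snd_assoc]
      have e2 := congrArg CommaMorphism.left ((IsIso.inv_hom_id_assoc (cmp f G (P' o) ≫ (G ◁ eP' o)) (snd G o.left.P)).symm.trans
        (congrArg (CategoryTheory.inv (cmp f G (P' o) ≫ (G ◁ eP' o)) ≫ ·) e))
      refine e2.trans ?_
      simp [eP']
  loc := o.left.loc
  φ := toUnit _
  eqv := toUnit_unique _ _

end ReBase

variable {W sec}

theorem β_natural {o' o : (fibCat σ (eW W sec)).obj} (k : o' ⟶ o) : k.left.base.left ≫ β o = β o' := by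
  have h := (StMod.map_comp_baseOver σ k.left o.hom).trans (congrArg (baseOver σ o'.left) (CostructuredArrow.w k))
  exact congrArg CommaMorphism.left h

/-- The morphism of total spaces over the base change. -/
noncomputable def reTop {o' o : (fibCat σ (eW W sec)).obj} (k : o' ⟶ o) : P' o' ⟶ P' o :=
  Over.homMk k.left.top.left (by
    show k.left.top.left ≫ o.left.π.left ≫ β o ≫ W.hom = o'.left.π.left ≫ β o' ≫ W.hom
    rw [← Category.assoc, ← Over.comp_left, k.left.cart.w, Over.comp_left, Category.assoc, ← β_natural k,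
      Category.assoc])

theorem map_reTop {o' o : (fibCat σ (eW W sec)).obj} (k : o' ⟶ o) :
    (Over.map f).map (reTop k) ≫ eP' o = eP' o' ≫ k.left.top :=
  Over.OverMorphism.ext ((Category.comp_id _).trans (Category.id_comp _).symm)

/-- The morphism over the base change. -/
noncomputable def reMap {o' o : (fibCat σ (eW W sec)).obj} (k : o' ⟶ o) : reBase o' ⟶ reBase o where
  base := Over.homMk k.left.base.left (by
    show k.left.base.left ≫ β o ≫ W.hom = β o' ≫ W.hom
    rw [← β_natural k, Category.assoc])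
  top := reTop k
  eqv := by
    refine map_ext (f := f) ((cancel_mono (eP' o)).1 ?_)
    show (Over.map f).map (act' o' ≫ reTop k) ≫ eP' o = (Over.map f).map ((Red.bc f G ◁ reTop k) ≫ act' o) ≫ eP' o
    rw [Functor.map_comp, Functor.map_comp, Category.assoc, Category.assoc, map_reTop, map_act', ← Category.assoc, map_act',
      actMap, actMap, ← Category.assoc _ (cmp f G (P' o)), cmp_natural, Category.assoc, Category.assoc, Category.assoc,
      k.left.eqv, ← MonoidalCategory.whiskerLeft_comp_assoc, ← MonoidalCategory.whiskerLeft_comp_assoc, map_reTop]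
  cart := by
    refine IsPullback.of_map (Over.forget S') (Over.OverMorphism.ext ?_) (k.left.cart.map (Over.forget S))
    exact (congrArg CommaMorphism.left k.left.cart.w :)
  wφ := toUnit_unique _ _

/-- The restriction of a module to the fibre. -/
noncomputable def upMod (F : StMod.Mod (AlgSt.BG Scheme.fppfPrecoverage (Red.bc f G))) :
    StMod.Mod (fibCat σ (eW W sec)) where
  obj o := F.obj (reBase o)
  map := fun {o' o} φ {g} hg => F.map (reMap φ) (g := g) hg
  map_id o := by
    have e : reMap (𝟙 o) = 𝟙 (reBase o) := QuotObj.hom_ext (Over.OverMorphism.ext rfl) (Over.OverMorphism.ext rfl)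
    refine Eq.trans (congrArg (· ≫ _) ?_) (F.map_id (reBase o))
    congr 1
  map_comp := fun {o'' o' o} ψ φ {h g} hh hg => by
    have e : reMap (ψ ≫ φ) = reMap ψ ≫ reMap φ := QuotObj.hom_ext (Over.OverMorphism.ext rfl) (Over.OverMorphism.ext rfl)
    refine Eq.trans ?_ (F.map_comp (reMap ψ) (reMap φ) (h := h) (g := g) hh hg)
    congr 1

/-- The restriction of a quasi-coherent module to the fibre. -/
noncomputable def upQ (F : StMod.QCoh (AlgSt.BG Scheme.fppfPrecoverage (Red.bc f G))) :
    StMod.QCoh (fibCat σ (eW W sec)) :=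
  ⟨upMod F.obj, fun {o' o} φ {g} hg => F.property.1 (reMap φ) hg, fun o => F.property.2 (reBase o)⟩

section Main

variable [QuasiSeparatedSpace S] [IsAffineHom G.hom] [Flat G.hom] [LocallyOfFinitePresentation G.hom]

/-- Linear reductivity passes to base changes. -/
theorem isCohAffine_bc_of (σ : AlgSt.BG Scheme.fppfPrecoverage G ⥤ᵇ AlgSt.ofSch (Over.mk (𝟙 S)))
    (hqc : AlgSt.IsQuasiCompactMor Scheme.fppfPrecoverage σ) (hqs : AlgSt.IsQuasiSeparatedMor σ)
    (h : StMod.IsCohAffine σ)
    (σ' : AlgSt.BG Scheme.fppfPrecoverage (Red.bc f G) ⥤ᵇ AlgSt.ofSch (Over.mk (𝟙 S'))) :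
    StMod.IsCohAffine σ' := by
  intro F M u hu E hE r
  let θ : (AlgSt.ofSch (Over.mk (𝟙 S'))).obj := etaOf E
  let W : Over S' := θ.base
  let sec : ((AlgSp.yon S).obj (Over.mk (𝟙 S))).obj.obj (Opposite.op (push f W)) := ⟨toUnit (push f W)⟩
  haveI : IsAffine W.left := hE
  haveI : QuasiSeparatedSpace (Over.mk (𝟙 S)).left := inferInstanceAs (QuasiSeparatedSpace S)
  have hL := CohBC.lifts_affine (M := (AlgSp.ofScheme S).obj (Over.mk (𝟙 S))) σ (Lib.ArtinAtlas.isAlgStack_quot _)
    (CohBC.compactPullbacks_yon (Over.mk (𝟙 S))) hqc hqs h (eW W sec) hE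
  let toW : ∀ o : (fibCat σ (eW W sec)).obj, σ'.obj (reBase o) ⟶ θ :=
    fun o => arr σ' θ (reBase o) (Over.homMk (β o) rfl)
  let t : ∀ o : (fibCat σ (eW W sec)).obj, Γ((upQ M).obj.obj o, ⊤) := fun o => r.1 (reBase o) (toW o)
  let u' : (upQ F : StMod.QCoh (fibCat σ (eW W sec))) ⟶ upQ M := ObjectProperty.homMk
    { app := fun o => u.hom.app (reBase o)
      comm := fun {_ _} φ {g} hg => u.hom.comm (reMap φ) (g := g) hg }
  obtain ⟨s, hs, hsu⟩ := hL u' (fun o ho a => hu (reBase o) ho a) t fun {o' o} k => by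
    show M.obj.mapTop (reMap k) (r.1 (reBase o) (toW o)) = r.1 (reBase o') (toW o')
    rw [r.2 (reMap k) (toW o)]
    refine congrArg (r.1 (reBase o')) (w_arr σ' θ _ _ _ ?_)
    refine (congrArg ((reMap k).base ≫ ·) (baseOver_arr σ' θ (reBase o) _)).trans ?_
    exact Over.OverMorphism.ext (β_natural k)
  -- back to the base change
  let pre : ∀ ξ : (AlgSt.BG Scheme.fppfPrecoverage (Red.bc f G)).obj, (σ'.obj ξ ⟶ θ) → (fibCat σ (eW W sec)).obj :=
    fun ξ α => CostructuredArrow.mk (Y := obj f G ξ) (arr σ (eW W sec) (obj f G ξ) ((Over.map f).map (baseOver σ' ξ α)))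
  have hβ : ∀ ξ α, β (pre ξ α) = (baseOver σ' ξ α).left := fun ξ α => by
    show (baseOver σ (obj f G ξ) (arr σ (eW W sec) (obj f G ξ) _)).left = _
    rw [baseOver_arr]
    rfl
  let ρ : ∀ ξ α, ξ ⟶ reBase (pre ξ α) := fun ξ α =>
    { base := Over.homMk (U := ξ.base) (V := base' (pre ξ α)) (𝟙 _) (by
        show 𝟙 _ ≫ β (pre ξ α) ≫ W.hom = ξ.base.hom
        rw [Category.id_comp, hβ]
        exact Over.w (baseOver σ' ξ α))
      top := Over.homMk (U := ξ.P) (V := P' (pre ξ α)) (𝟙 _) (by
        show 𝟙 _ ≫ ξ.π.left ≫ β (pre ξ α) ≫ W.hom = ξ.P.hom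
        rw [Category.id_comp, hβ]
        exact (congrArg (ξ.π.left ≫ ·) (Over.w (baseOver σ' ξ α))).trans (Over.w ξ.π))
      eqv := by
        have ht : ∀ (q : 𝟙 ξ.P.left ≫ (P' (pre ξ α)).hom = ξ.P.hom),
            (Over.map f).map (Over.homMk (U := ξ.P) (V := P' (pre ξ α)) (𝟙 _) q) ≫ eP' (pre ξ α) = 𝟙 (push f ξ.P) :=
          fun q => Over.OverMorphism.ext (Category.id_comp _)
        refine map_ext (f := f) ((cancel_mono (eP' (pre ξ α))).1 ?_)
        show (Over.map f).map (ξ.act.act ≫ _) ≫ _ = (Over.map f).map ((Red.bc f G ◁ _) ≫ act' (pre ξ α)) ≫ _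
        rw [Functor.map_comp, Functor.map_comp, Category.assoc, Category.assoc, ht, map_act', Category.comp_id, actMap,
          ← Category.assoc _ (cmp f G (P' (pre ξ α))), cmp_natural, Category.assoc]
        have hw : (G ◁ (Over.map f).map (Over.homMk (U := ξ.P) (V := P' (pre ξ α)) (𝟙 _) (by
            show 𝟙 _ ≫ ξ.π.left ≫ β (pre ξ α) ≫ W.hom = ξ.P.hom
            rw [Category.id_comp, hβ]
            exact (congrArg (ξ.π.left ≫ ·) (Over.w (baseOver σ' ξ α))).trans (Over.w ξ.π)))) ≫ (G ◁ eP' (pre ξ α)) = 𝟙 _ := by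
          rw [← MonoidalCategory.whiskerLeft_comp, ht]
          exact MonoidalCategory.whiskerLeft_id _ _
        rw [← Category.assoc (G ◁ _), hw, Category.id_comp]
        exact (cmp_pushAct f G ξ.act).symm
      cart := IsPullback.of_map (Over.forget S') (Over.OverMorphism.ext ((Category.id_comp _).trans (Category.comp_id _).symm))
        (show IsPullback (𝟙 ξ.P.left) ξ.π.left ξ.π.left (𝟙 ξ.base.left) from IsPullback.of_horiz_isIso ⟨(Category.id_comp _).trans (Category.comp_id _).symm⟩)
      wφ := toUnit_unique _ _ }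
  refine ⟨⟨fun ξ α => F.obj.mapTop (ρ ξ α) (s (pre ξ α)), fun {ξ' ξ} k α => ?_⟩, Subtype.ext (funext fun ξ => funext fun α => ?_)⟩
  · let kk : pre ξ' (σ'.map k ≫ α) ⟶ pre ξ α := CostructuredArrow.homMk (map f G k)
      (w_arr σ (eW W sec) _ _ _ (by
        refine (congrArg ((map f G k).base ≫ ·) (baseOver_arr σ (eW W sec) (obj f G ξ) _)).trans ?_
        show (Over.map f).map k.base ≫ _ = _
        rw [← Functor.map_comp]
        exact congrArg (Over.map f).map (StMod.map_comp_baseOver σ' k α)))
    show F.obj.mapTop k (F.obj.mapTop (ρ ξ α) (s (pre ξ α))) = _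
    beta_reduce
    rw [← StMod.Mod.mapTop_comp, ← hs kk]
    show _ = F.obj.mapTop (ρ ξ' (σ'.map k ≫ α)) (F.obj.mapTop (reMap kk) (s (pre ξ α)))
    rw [← StMod.Mod.mapTop_comp]
    refine congrArg (fun z => F.obj.mapTop z (s (pre ξ α))) (QuotObj.hom_ext (Over.OverMorphism.ext ?_) (Over.OverMorphism.ext ?_))
    · exact (Category.comp_id _).trans (Category.id_comp _).symm
    · exact (Category.comp_id _).trans (Category.id_comp _).symm
  · show (u.hom.app ξ).app ⊤ (F.obj.mapTop (ρ ξ α) (s (pre ξ α))) = r.1 ξ α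
    rw [← StMod.Mod.mapTop_app u.hom]
    refine (congrArg (M.obj.mapTop (ρ ξ α)) (hsu (pre ξ α))).trans ?_
    show M.obj.mapTop (ρ ξ α) (r.1 (reBase (pre ξ α)) (toW (pre ξ α))) = _
    rw [r.2 (ρ ξ α) (toW (pre ξ α))]
    refine congrArg (r.1 ξ) ((w_arr σ' θ (ρ ξ α) _ (baseOver σ' ξ α) ?_).trans (BGPush.arr_ext σ' θ (baseOver_arr σ' θ ξ _)))
    refine (congrArg ((ρ ξ α).base ≫ ·) (baseOver_arr σ' θ (reBase (pre ξ α)) _)).trans ?_
    exact Over.OverMorphism.ext ((Category.id_comp _).trans (hβ ξ α))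

end Main

end Groth.Agent.H14.BGRes
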